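import Cfsg.Agent.Screen.CosetEnum.Fi22O73.Data
import Cfsg.Agent.Screen.CosetEnum.Fi22O73.FCheck0
import Cfsg.Agent.Screen.CosetEnum.Fi22O73.FCheck1
import Cfsg.Agent.Screen.CosetEnum.Fi22O73.FCheck2
import Cfsg.Agent.Screen.CosetEnum.Fi22O73.FCheck3
import Cfsg.Agent.Screen.CosetEnum.Fi22O73.RCheck0
import Cfsg.Agent.Screen.CosetEnum.Fi22O73.RCheck1
import Cfsg.Agent.Screen.CosetEnum.Fi22O73.RCheck2
import Cfsg.Agent.Screen.CosetEnum.Fi22O73.RCheck3

/-!
# The table is checked
-/

set_option autoImplicit false
set_option maxRecDepth 20000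

namespace Cfsg.Agent.Screen.CosetEnum.Fi22O73

open Cfsg.Agent.Screen.CosetEnum

theorem checked : tbl.Checked where
  facts b hb := by
    have hb' : b < 3530 := by
      have : tbl.toCert.nf = 84705 := rfl
      omega
    by_cases h0 : b < 40
    · exact blocks_spec _ _ _ fcheck0 b (by omega) h0
    by_cases h1 : b < 80
    · exact blocks_spec _ _ _ fcheck1 b (by omega) h1
    by_cases h2 : b < 120
    · exact blocks_spec _ _ _ fcheck2 b (by omega) h2
    by_cases h3 : b < 160
    · exact blocks_spec _ _ _ fcheck3 b (by omega) h3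
    by_cases h4 : b < 200
    · exact blocks_spec _ _ _ fcheck4 b (by omega) h4
    by_cases h5 : b < 240
    · exact blocks_spec _ _ _ fcheck5 b (by omega) h5
    by_cases h6 : b < 280
    · exact blocks_spec _ _ _ fcheck6 b (by omega) h6
    by_cases h7 : b < 320
    · exact blocks_spec _ _ _ fcheck7 b (by omega) h7
    by_cases h8 : b < 360
    · exact blocks_spec _ _ _ fcheck8 b (by omega) h8
    by_cases h9 : b < 400
    · exact blocks_spec _ _ _ fcheck9 b (by omega) h9
    by_cases h10 : b < 440
    · exact blocks_spec _ _ _ fcheck10 b (by omega) h10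
    by_cases h11 : b < 480
    · exact blocks_spec _ _ _ fcheck11 b (by omega) h11
    by_cases h12 : b < 520
    · exact blocks_spec _ _ _ fcheck12 b (by omega) h12
    by_cases h13 : b < 560
    · exact blocks_spec _ _ _ fcheck13 b (by omega) h13
    by_cases h14 : b < 600
    · exact blocks_spec _ _ _ fcheck14 b (by omega) h14
    by_cases h15 : b < 640
    · exact blocks_spec _ _ _ fcheck15 b (by omega) h15
    by_cases h16 : b < 680
    · exact blocks_spec _ _ _ fcheck16 b (by omega) h16
    by_cases h17 : b < 720
    · exact blocks_spec _ _ _ fcheck17 b (by omega) h17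
    by_cases h18 : b < 760
    · exact blocks_spec _ _ _ fcheck18 b (by omega) h18
    by_cases h19 : b < 800
    · exact blocks_spec _ _ _ fcheck19 b (by omega) h19
    by_cases h20 : b < 840
    · exact blocks_spec _ _ _ fcheck20 b (by omega) h20
    by_cases h21 : b < 880
    · exact blocks_spec _ _ _ fcheck21 b (by omega) h21
    by_cases h22 : b < 920
    · exact blocks_spec _ _ _ fcheck22 b (by omega) h22
    by_cases h23 : b < 960
    · exact blocks_spec _ _ _ fcheck23 b (by omega) h23
    by_cases h24 : b < 1000
    · exact blocks_spec _ _ _ fcheck24 b (by omega) h24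
    by_cases h25 : b < 1040
    · exact blocks_spec _ _ _ fcheck25 b (by omega) h25
    by_cases h26 : b < 1080
    · exact blocks_spec _ _ _ fcheck26 b (by omega) h26
    by_cases h27 : b < 1120
    · exact blocks_spec _ _ _ fcheck27 b (by omega) h27
    by_cases h28 : b < 1160
    · exact blocks_spec _ _ _ fcheck28 b (by omega) h28
    by_cases h29 : b < 1200
    · exact blocks_spec _ _ _ fcheck29 b (by omega) h29
    by_cases h30 : b < 1240
    · exact blocks_spec _ _ _ fcheck30 b (by omega) h30
    by_cases h31 : b < 1280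
    · exact blocks_spec _ _ _ fcheck31 b (by omega) h31
    by_cases h32 : b < 1320
    · exact blocks_spec _ _ _ fcheck32 b (by omega) h32
    by_cases h33 : b < 1360
    · exact blocks_spec _ _ _ fcheck33 b (by omega) h33
    by_cases h34 : b < 1400
    · exact blocks_spec _ _ _ fcheck34 b (by omega) h34
    by_cases h35 : b < 1440
    · exact blocks_spec _ _ _ fcheck35 b (by omega) h35
    by_cases h36 : b < 1480
    · exact blocks_spec _ _ _ fcheck36 b (by omega) h36
    by_cases h37 : b < 1520
    · exact blocks_spec _ _ _ fcheck37 b (by omega) h37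
    by_cases h38 : b < 1560
    · exact blocks_spec _ _ _ fcheck38 b (by omega) h38
    by_cases h39 : b < 1600
    · exact blocks_spec _ _ _ fcheck39 b (by omega) h39
    by_cases h40 : b < 1640
    · exact blocks_spec _ _ _ fcheck40 b (by omega) h40
    by_cases h41 : b < 1680
    · exact blocks_spec _ _ _ fcheck41 b (by omega) h41
    by_cases h42 : b < 1720
    · exact blocks_spec _ _ _ fcheck42 b (by omega) h42
    by_cases h43 : b < 1760
    · exact blocks_spec _ _ _ fcheck43 b (by omega) h43
    by_cases h44 : b < 1800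
    · exact blocks_spec _ _ _ fcheck44 b (by omega) h44
    by_cases h45 : b < 1840
    · exact blocks_spec _ _ _ fcheck45 b (by omega) h45
    by_cases h46 : b < 1880
    · exact blocks_spec _ _ _ fcheck46 b (by omega) h46
    by_cases h47 : b < 1920
    · exact blocks_spec _ _ _ fcheck47 b (by omega) h47
    by_cases h48 : b < 1960
    · exact blocks_spec _ _ _ fcheck48 b (by omega) h48
    by_cases h49 : b < 2000
    · exact blocks_spec _ _ _ fcheck49 b (by omega) h49
    by_cases h50 : b < 2040
    · exact blocks_spec _ _ _ fcheck50 b (by omega) h50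
    by_cases h51 : b < 2080
    · exact blocks_spec _ _ _ fcheck51 b (by omega) h51
    by_cases h52 : b < 2120
    · exact blocks_spec _ _ _ fcheck52 b (by omega) h52
    by_cases h53 : b < 2160
    · exact blocks_spec _ _ _ fcheck53 b (by omega) h53
    by_cases h54 : b < 2200
    · exact blocks_spec _ _ _ fcheck54 b (by omega) h54
    by_cases h55 : b < 2240
    · exact blocks_spec _ _ _ fcheck55 b (by omega) h55
    by_cases h56 : b < 2280
    · exact blocks_spec _ _ _ fcheck56 b (by omega) h56
    by_cases h57 : b < 2320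
    · exact blocks_spec _ _ _ fcheck57 b (by omega) h57
    by_cases h58 : b < 2360
    · exact blocks_spec _ _ _ fcheck58 b (by omega) h58
    by_cases h59 : b < 2400
    · exact blocks_spec _ _ _ fcheck59 b (by omega) h59
    by_cases h60 : b < 2440
    · exact blocks_spec _ _ _ fcheck60 b (by omega) h60
    by_cases h61 : b < 2480
    · exact blocks_spec _ _ _ fcheck61 b (by omega) h61
    by_cases h62 : b < 2520
    · exact blocks_spec _ _ _ fcheck62 b (by omega) h62
    by_cases h63 : b < 2560
    · exact blocks_spec _ _ _ fcheck63 b (by omega) h63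
    by_cases h64 : b < 2600
    · exact blocks_spec _ _ _ fcheck64 b (by omega) h64
    by_cases h65 : b < 2640
    · exact blocks_spec _ _ _ fcheck65 b (by omega) h65
    by_cases h66 : b < 2680
    · exact blocks_spec _ _ _ fcheck66 b (by omega) h66
    by_cases h67 : b < 2720
    · exact blocks_spec _ _ _ fcheck67 b (by omega) h67
    by_cases h68 : b < 2760
    · exact blocks_spec _ _ _ fcheck68 b (by omega) h68
    by_cases h69 : b < 2800
    · exact blocks_spec _ _ _ fcheck69 b (by omega) h69
    by_cases h70 : b < 2840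
    · exact blocks_spec _ _ _ fcheck70 b (by omega) h70
    by_cases h71 : b < 2880
    · exact blocks_spec _ _ _ fcheck71 b (by omega) h71
    by_cases h72 : b < 2920
    · exact blocks_spec _ _ _ fcheck72 b (by omega) h72
    by_cases h73 : b < 2960
    · exact blocks_spec _ _ _ fcheck73 b (by omega) h73
    by_cases h74 : b < 3000
    · exact blocks_spec _ _ _ fcheck74 b (by omega) h74
    by_cases h75 : b < 3040
    · exact blocks_spec _ _ _ fcheck75 b (by omega) h75
    by_cases h76 : b < 3080
    · exact blocks_spec _ _ _ fcheck76 b (by omega) h76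
    by_cases h77 : b < 3120
    · exact blocks_spec _ _ _ fcheck77 b (by omega) h77
    by_cases h78 : b < 3160
    · exact blocks_spec _ _ _ fcheck78 b (by omega) h78
    by_cases h79 : b < 3200
    · exact blocks_spec _ _ _ fcheck79 b (by omega) h79
    by_cases h80 : b < 3240
    · exact blocks_spec _ _ _ fcheck80 b (by omega) h80
    by_cases h81 : b < 3280
    · exact blocks_spec _ _ _ fcheck81 b (by omega) h81
    by_cases h82 : b < 3320
    · exact blocks_spec _ _ _ fcheck82 b (by omega) h82
    by_cases h83 : b < 3360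
    · exact blocks_spec _ _ _ fcheck83 b (by omega) h83
    by_cases h84 : b < 3400
    · exact blocks_spec _ _ _ fcheck84 b (by omega) h84
    by_cases h85 : b < 3440
    · exact blocks_spec _ _ _ fcheck85 b (by omega) h85
    by_cases h86 : b < 3480
    · exact blocks_spec _ _ _ fcheck86 b (by omega) h86
    by_cases h87 : b < 3520
    · exact blocks_spec _ _ _ fcheck87 b (by omega) h87
    by_cases h88 : b < 3530
    · exact blocks_spec _ _ _ fcheck88 b (by omega) h88
    omega
  rows c hc := by
    have hc' : c < 14080 := hc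
    by_cases h0 : c < 150
    · exact Tab.rows_spec _ _ rcheck0 c (by omega) h0 hc
    by_cases h1 : c < 300
    · exact Tab.rows_spec _ _ rcheck1 c (by omega) h1 hc
    by_cases h2 : c < 450
    · exact Tab.rows_spec _ _ rcheck2 c (by omega) h2 hc
    by_cases h3 : c < 600
    · exact Tab.rows_spec _ _ rcheck3 c (by omega) h3 hc
    by_cases h4 : c < 750
    · exact Tab.rows_spec _ _ rcheck4 c (by omega) h4 hc
    by_cases h5 : c < 900
    · exact Tab.rows_spec _ _ rcheck5 c (by omega) h5 hc
    by_cases h6 : c < 1050
    · exact Tab.rows_spec _ _ rcheck6 c (by omega) h6 hc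
    by_cases h7 : c < 1200
    · exact Tab.rows_spec _ _ rcheck7 c (by omega) h7 hc
    by_cases h8 : c < 1350
    · exact Tab.rows_spec _ _ rcheck8 c (by omega) h8 hc
    by_cases h9 : c < 1500
    · exact Tab.rows_spec _ _ rcheck9 c (by omega) h9 hc
    by_cases h10 : c < 1650
    · exact Tab.rows_spec _ _ rcheck10 c (by omega) h10 hc
    by_cases h11 : c < 1800
    · exact Tab.rows_spec _ _ rcheck11 c (by omega) h11 hc
    by_cases h12 : c < 1950
    · exact Tab.rows_spec _ _ rcheck12 c (by omega) h12 hc
    by_cases h13 : c < 2100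
    · exact Tab.rows_spec _ _ rcheck13 c (by omega) h13 hc
    by_cases h14 : c < 2250
    · exact Tab.rows_spec _ _ rcheck14 c (by omega) h14 hc
    by_cases h15 : c < 2400
    · exact Tab.rows_spec _ _ rcheck15 c (by omega) h15 hc
    by_cases h16 : c < 2550
    · exact Tab.rows_spec _ _ rcheck16 c (by omega) h16 hc
    by_cases h17 : c < 2700
    · exact Tab.rows_spec _ _ rcheck17 c (by omega) h17 hc
    by_cases h18 : c < 2850
    · exact Tab.rows_spec _ _ rcheck18 c (by omega) h18 hc
    by_cases h19 : c < 3000
    · exact Tab.rows_spec _ _ rcheck19 c (by omega) h19 hc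
    by_cases h20 : c < 3150
    · exact Tab.rows_spec _ _ rcheck20 c (by omega) h20 hc
    by_cases h21 : c < 3300
    · exact Tab.rows_spec _ _ rcheck21 c (by omega) h21 hc
    by_cases h22 : c < 3450
    · exact Tab.rows_spec _ _ rcheck22 c (by omega) h22 hc
    by_cases h23 : c < 3600
    · exact Tab.rows_spec _ _ rcheck23 c (by omega) h23 hc
    by_cases h24 : c < 3750
    · exact Tab.rows_spec _ _ rcheck24 c (by omega) h24 hc
    by_cases h25 : c < 3900
    · exact Tab.rows_spec _ _ rcheck25 c (by omega) h25 hc
    by_cases h26 : c < 4050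
    · exact Tab.rows_spec _ _ rcheck26 c (by omega) h26 hc
    by_cases h27 : c < 4200
    · exact Tab.rows_spec _ _ rcheck27 c (by omega) h27 hc
    by_cases h28 : c < 4350
    · exact Tab.rows_spec _ _ rcheck28 c (by omega) h28 hc
    by_cases h29 : c < 4500
    · exact Tab.rows_spec _ _ rcheck29 c (by omega) h29 hc
    by_cases h30 : c < 4650
    · exact Tab.rows_spec _ _ rcheck30 c (by omega) h30 hc
    by_cases h31 : c < 4800
    · exact Tab.rows_spec _ _ rcheck31 c (by omega) h31 hc
    by_cases h32 : c < 4950
    · exact Tab.rows_spec _ _ rcheck32 c (by omega) h32 hc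
    by_cases h33 : c < 5100
    · exact Tab.rows_spec _ _ rcheck33 c (by omega) h33 hc
    by_cases h34 : c < 5250
    · exact Tab.rows_spec _ _ rcheck34 c (by omega) h34 hc
    by_cases h35 : c < 5400
    · exact Tab.rows_spec _ _ rcheck35 c (by omega) h35 hc
    by_cases h36 : c < 5550
    · exact Tab.rows_spec _ _ rcheck36 c (by omega) h36 hc
    by_cases h37 : c < 5700
    · exact Tab.rows_spec _ _ rcheck37 c (by omega) h37 hc
    by_cases h38 : c < 5850
    · exact Tab.rows_spec _ _ rcheck38 c (by omega) h38 hc
    by_cases h39 : c < 6000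
    · exact Tab.rows_spec _ _ rcheck39 c (by omega) h39 hc
    by_cases h40 : c < 6150
    · exact Tab.rows_spec _ _ rcheck40 c (by omega) h40 hc
    by_cases h41 : c < 6300
    · exact Tab.rows_spec _ _ rcheck41 c (by omega) h41 hc
    by_cases h42 : c < 6450
    · exact Tab.rows_spec _ _ rcheck42 c (by omega) h42 hc
    by_cases h43 : c < 6600
    · exact Tab.rows_spec _ _ rcheck43 c (by omega) h43 hc
    by_cases h44 : c < 6750
    · exact Tab.rows_spec _ _ rcheck44 c (by omega) h44 hc
    by_cases h45 : c < 6900
    · exact Tab.rows_spec _ _ rcheck45 c (by omega) h45 hc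
    by_cases h46 : c < 7050
    · exact Tab.rows_spec _ _ rcheck46 c (by omega) h46 hc
    by_cases h47 : c < 7200
    · exact Tab.rows_spec _ _ rcheck47 c (by omega) h47 hc
    by_cases h48 : c < 7350
    · exact Tab.rows_spec _ _ rcheck48 c (by omega) h48 hc
    by_cases h49 : c < 7500
    · exact Tab.rows_spec _ _ rcheck49 c (by omega) h49 hc
    by_cases h50 : c < 7650
    · exact Tab.rows_spec _ _ rcheck50 c (by omega) h50 hc
    by_cases h51 : c < 7800
    · exact Tab.rows_spec _ _ rcheck51 c (by omega) h51 hc
    by_cases h52 : c < 7950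
    · exact Tab.rows_spec _ _ rcheck52 c (by omega) h52 hc
    by_cases h53 : c < 8100
    · exact Tab.rows_spec _ _ rcheck53 c (by omega) h53 hc
    by_cases h54 : c < 8250
    · exact Tab.rows_spec _ _ rcheck54 c (by omega) h54 hc
    by_cases h55 : c < 8400
    · exact Tab.rows_spec _ _ rcheck55 c (by omega) h55 hc
    by_cases h56 : c < 8550
    · exact Tab.rows_spec _ _ rcheck56 c (by omega) h56 hc
    by_cases h57 : c < 8700
    · exact Tab.rows_spec _ _ rcheck57 c (by omega) h57 hc
    by_cases h58 : c < 8850
    · exact Tab.rows_spec _ _ rcheck58 c (by omega) h58 hc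
    by_cases h59 : c < 9000
    · exact Tab.rows_spec _ _ rcheck59 c (by omega) h59 hc
    by_cases h60 : c < 9150
    · exact Tab.rows_spec _ _ rcheck60 c (by omega) h60 hc
    by_cases h61 : c < 9300
    · exact Tab.rows_spec _ _ rcheck61 c (by omega) h61 hc
    by_cases h62 : c < 9450
    · exact Tab.rows_spec _ _ rcheck62 c (by omega) h62 hc
    by_cases h63 : c < 9600
    · exact Tab.rows_spec _ _ rcheck63 c (by omega) h63 hc
    by_cases h64 : c < 9750
    · exact Tab.rows_spec _ _ rcheck64 c (by omega) h64 hc
    by_cases h65 : c < 9900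
    · exact Tab.rows_spec _ _ rcheck65 c (by omega) h65 hc
    by_cases h66 : c < 10050
    · exact Tab.rows_spec _ _ rcheck66 c (by omega) h66 hc
    by_cases h67 : c < 10200
    · exact Tab.rows_spec _ _ rcheck67 c (by omega) h67 hc
    by_cases h68 : c < 10350
    · exact Tab.rows_spec _ _ rcheck68 c (by omega) h68 hc
    by_cases h69 : c < 10500
    · exact Tab.rows_spec _ _ rcheck69 c (by omega) h69 hc
    by_cases h70 : c < 10650
    · exact Tab.rows_spec _ _ rcheck70 c (by omega) h70 hc
    by_cases h71 : c < 10800
    · exact Tab.rows_spec _ _ rcheck71 c (by omega) h71 hc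
    by_cases h72 : c < 10950
    · exact Tab.rows_spec _ _ rcheck72 c (by omega) h72 hc
    by_cases h73 : c < 11100
    · exact Tab.rows_spec _ _ rcheck73 c (by omega) h73 hc
    by_cases h74 : c < 11250
    · exact Tab.rows_spec _ _ rcheck74 c (by omega) h74 hc
    by_cases h75 : c < 11400
    · exact Tab.rows_spec _ _ rcheck75 c (by omega) h75 hc
    by_cases h76 : c < 11550
    · exact Tab.rows_spec _ _ rcheck76 c (by omega) h76 hc
    by_cases h77 : c < 11700
    · exact Tab.rows_spec _ _ rcheck77 c (by omega) h77 hc
    by_cases h78 : c < 11850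
    · exact Tab.rows_spec _ _ rcheck78 c (by omega) h78 hc
    by_cases h79 : c < 12000
    · exact Tab.rows_spec _ _ rcheck79 c (by omega) h79 hc
    by_cases h80 : c < 12150
    · exact Tab.rows_spec _ _ rcheck80 c (by omega) h80 hc
    by_cases h81 : c < 12300
    · exact Tab.rows_spec _ _ rcheck81 c (by omega) h81 hc
    by_cases h82 : c < 12450
    · exact Tab.rows_spec _ _ rcheck82 c (by omega) h82 hc
    by_cases h83 : c < 12600
    · exact Tab.rows_spec _ _ rcheck83 c (by omega) h83 hc
    by_cases h84 : c < 12750
    · exact Tab.rows_spec _ _ rcheck84 c (by omega) h84 hc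
    by_cases h85 : c < 12900
    · exact Tab.rows_spec _ _ rcheck85 c (by omega) h85 hc
    by_cases h86 : c < 13050
    · exact Tab.rows_spec _ _ rcheck86 c (by omega) h86 hc
    by_cases h87 : c < 13200
    · exact Tab.rows_spec _ _ rcheck87 c (by omega) h87 hc
    by_cases h88 : c < 13350
    · exact Tab.rows_spec _ _ rcheck88 c (by omega) h88 hc
    by_cases h89 : c < 13500
    · exact Tab.rows_spec _ _ rcheck89 c (by omega) h89 hc
    by_cases h90 : c < 13650
    · exact Tab.rows_spec _ _ rcheck90 c (by omega) h90 hc
    by_cases h91 : c < 13800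
    · exact Tab.rows_spec _ _ rcheck91 c (by omega) h91 hc
    by_cases h92 : c < 13950
    · exact Tab.rows_spec _ _ rcheck92 c (by omega) h92 hc
    by_cases h93 : c < 14080
    · exact Tab.rows_spec _ _ rcheck93 c (by omega) h93 hc
    omega
  base := by decide +kernel

end Cfsg.Agent.Screen.CosetEnum.Fi22O73
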